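import Mathlib
import Cfsg.Prelude.Def_Solvable
import Cfsg.Agent.Lib.Helper98.A8.Pkgs
import Cfsg.Agent.Lib.Helper74.KS12.Solv

set_option autoImplicit false

/-!
Packages `PkgSolv`, `PkgInv`, `PkgOdd`, `PkgOddG` of S2553 (helper98's project): nontrivial cores.
-/

namespace Cfsg.Agent.Lib.Helper34.A8

/-- A nontrivial normal `2`-subgroup gives a nontrivial `2`-core. -/
theorem pCore_ne_bot_of_normal {H : Type*} [Group H] (N : Subgroup H) (hn : N.Normal)
    (h2 : IsPGroup 2 ↥N) (hne : N ≠ ⊥) : Cfsg.pCore 2 H ≠ ⊥ := by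
  intro h
  apply hne
  have hle : N ≤ Cfsg.pCore 2 H := by
    unfold Cfsg.pCore
    exact le_sSup ⟨hn, h2⟩
  rw [h] at hle
  exact le_bot_iff.mp hle

/-- A nontrivial normal subgroup of odd order gives a nontrivial odd core. -/
theorem pPrimeCore_ne_bot_of_normal {H : Type*} [Group H] (N : Subgroup H) (hn : N.Normal)
    (h2 : (Nat.card ↥N).Coprime 2) (hne : N ≠ ⊥) : Cfsg.pPrimeCore 2 H ≠ ⊥ := by
  intro h
  apply hne
  have hle : N ≤ Cfsg.pPrimeCore 2 H := by
    unfold Cfsg.pPrimeCore
    exact le_sSup ⟨hn, h2⟩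
  rw [h] at hle
  exact le_bot_iff.mp hle

/-- Package SOLV. -/
theorem pkgSolv : Cfsg.Agent.Lib.Helper98.A8.PkgSolv := by
  intro G _ _ hs _
  obtain ⟨N, hn, hne, h⟩ := Cfsg.Agent.Lib.Helper74.KS12.solv_exists_normal G hs
  rcases h with h | h
  · exact Or.inl (pCore_ne_bot_of_normal N hn h hne)
  · refine Or.inr (pPrimeCore_ne_bot_of_normal N hn ?_ hne)
    exact Nat.Coprime.symm (Nat.coprime_two_left.mpr h)

/-- Conjugation invariance on generators (and their inverses) extends to the closure. -/
theorem conj_mem_of_closure {X : Type*} [Group X] (S : Set X) (T : Set X)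
    (h : ∀ g ∈ S, ∀ t ∈ T, g * t * g⁻¹ ∈ T ∧ g⁻¹ * t * g ∈ T) :
    ∀ k ∈ Subgroup.closure S, ∀ t ∈ T, k * t * k⁻¹ ∈ T ∧ k⁻¹ * t * k ∈ T := by
  intro k hk
  induction hk using Subgroup.closure_induction with
  | mem g hg => exact h g hg
  | one => intro t ht; simpa using ht
  | mul a b _ _ iha ihb =>
    intro t ht
    constructor
    · have h1 := (ihb t ht).1
      have h2 := (iha _ h1).1
      have : a * b * t * (a * b)⁻¹ = a * (b * t * b⁻¹) * a⁻¹ := by group
      rw [this]; exact h2
    · have h1 := (iha t ht).2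
      have h2 := (ihb _ h1).2
      have : (a * b)⁻¹ * t * (a * b) = b⁻¹ * (a⁻¹ * t * a) * b := by group
      rw [this]; exact h2
  | inv a _ iha =>
    intro t ht
    constructor
    · have := (iha t ht).2
      simpa using this
    · have := (iha t ht).1
      simpa using this

/-- Package INV. -/
theorem pkgInv : Cfsg.Agent.Lib.Helper98.A8.PkgInv := by
  intro S T hT1 hTS hT2 hTc hinv
  obtain ⟨t0, ht0, ht01⟩ := hT1
  have hconj := conj_mem_of_closure S T hinv
  -- the closure of `T`
  have hle : Subgroup.closure T ≤ Subgroup.closure S := by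
    rw [Subgroup.closure_le]; exact hTS
  -- elements of `closure T` commute with `T`-elements, hence with each other
  have hcomm : ∀ a ∈ Subgroup.closure T, ∀ b ∈ Subgroup.closure T, a * b = b * a := by
    have h1 : ∀ a ∈ Subgroup.closure T, ∀ t ∈ T, a * t = t * a := by
      intro a ha
      induction ha using Subgroup.closure_induction with
      | mem s hs => intro t ht; exact hTc s hs t ht
      | one => intro t _; simp
      | mul a b _ _ iha ihb =>
        intro t ht
        rw [mul_assoc, ihb t ht, ← mul_assoc, iha t ht, mul_assoc]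
      | inv a _ iha =>
        intro t ht
        have := iha t ht
        calc a⁻¹ * t = a⁻¹ * (t * a) * a⁻¹ := by group
          _ = a⁻¹ * (a * t) * a⁻¹ := by rw [this]
          _ = t * a⁻¹ := by group
    intro a ha b hb
    induction hb using Subgroup.closure_induction with
    | mem s hs => exact h1 a ha s hs
    | one => simp
    | mul b c _ _ ihb ihc =>
      rw [← mul_assoc, ihb, mul_assoc, ihc, mul_assoc]
    | inv b _ ihb =>
      calc a * b⁻¹ = b⁻¹ * (b * a) * b⁻¹ := by group
        _ = b⁻¹ * (a * b) * b⁻¹ := by rw [ihb]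
        _ = b⁻¹ * a := by group
  have hsq : ∀ a ∈ Subgroup.closure T, a * a = 1 := by
    intro a ha
    induction ha using Subgroup.closure_induction with
    | mem s hs => exact hT2 s hs
    | one => simp
    | mul a b ha hb iha ihb =>
      calc a * b * (a * b) = a * (b * a) * b := by group
        _ = a * (a * b) * b := by rw [hcomm b hb a ha]
        _ = (a * a) * (b * b) := by group
        _ = 1 := by rw [iha, ihb]; simp
    | inv a _ iha =>
      have : a⁻¹ * a⁻¹ = (a * a)⁻¹ := by group
      rw [this, iha]; simp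
  -- normality
  have hnorm : ∀ k ∈ Subgroup.closure S, ∀ a ∈ Subgroup.closure T,
      k * a * k⁻¹ ∈ Subgroup.closure T := by
    intro k hk a ha
    induction ha using Subgroup.closure_induction with
    | mem s hs => exact Subgroup.subset_closure ((hconj k hk s hs).1)
    | one => simp
    | mul a b _ _ iha ihb =>
      have : k * (a * b) * k⁻¹ = (k * a * k⁻¹) * (k * b * k⁻¹) := by group
      rw [this]; exact Subgroup.mul_mem _ iha ihb
    | inv a _ iha =>
      have : k * a⁻¹ * k⁻¹ = (k * a * k⁻¹)⁻¹ := by group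
      rw [this]; exact Subgroup.inv_mem _ iha
  set H := Subgroup.closure S with hH
  set N : Subgroup ↥H := (Subgroup.closure T).subgroupOf H with hN
  have hNn : N.Normal := by
    constructor
    intro n hn g
    rw [hN, Subgroup.mem_subgroupOf] at hn ⊢
    have := hnorm g.1 g.2 n.1 hn
    simpa using this
  have hN2 : IsPGroup 2 ↥N := by
    intro g
    refine ⟨1, ?_⟩
    have hg : (g : ↥H).1 ∈ Subgroup.closure T := by
      have h1 : (g : ↥H) ∈ (Subgroup.closure T).subgroupOf H := g.2
      exact Subgroup.mem_subgroupOf.mp h1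
    have := hsq _ hg
    apply Subtype.ext
    apply Subtype.ext
    simp only [pow_one, pow_two]
    simpa using this
  have hNne : N ≠ ⊥ := by
    intro hbot
    have hmem : (⟨t0, hTS t0 ht0⟩ : ↥H) ∈ N := by
      rw [hN, Subgroup.mem_subgroupOf]
      exact Subgroup.subset_closure ht0
    rw [hbot, Subgroup.mem_bot] at hmem
    apply ht01
    exact congrArg Subtype.val hmem
  exact pCore_ne_bot_of_normal N hNn hN2 hNne

/-- Package ODD. -/
theorem pkgOdd : Cfsg.Agent.Lib.Helper98.A8.PkgOdd := by
  intro H c p hp hp2 hc hcH hnorm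
  have hzle : Subgroup.zpowers c ≤ H := by
    rw [Subgroup.zpowers_le]; exact hcH
  set N : Subgroup ↥H := (Subgroup.zpowers c).subgroupOf H with hN
  have hnorm' : ∀ h ∈ H, ∀ y ∈ Subgroup.zpowers c, h * y * h⁻¹ ∈ Subgroup.zpowers c := by
    intro h hh y hy
    obtain ⟨n, rfl⟩ := Subgroup.mem_zpowers_iff.mp hy
    have : h * c ^ n * h⁻¹ = (h * c * h⁻¹) ^ n := by
      rw [conj_zpow]
    rw [this]
    exact Subgroup.zpow_mem _ (hnorm h hh) n
  have hNn : N.Normal := by
    constructor
    intro n hn g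
    rw [hN, Subgroup.mem_subgroupOf] at hn ⊢
    have := hnorm' g.1 g.2 n.1 hn
    simpa using this
  have hcard : Nat.card ↥N = p := by
    rw [hN, Nat.card_congr (Subgroup.subgroupOfEquivOfLe hzle).toEquiv, Nat.card_zpowers, hc]
  have hNne : N ≠ ⊥ := by
    intro hbot
    rw [hbot] at hcard
    simp at hcard
    exact hp.one_lt.ne' hcard.symm
  refine pPrimeCore_ne_bot_of_normal N hNn ?_ hNne
  rw [hcard]
  exact (Nat.coprime_primes hp Nat.prime_two).mpr hp2

/-- Package ODDG. -/
theorem pkgOddG : Cfsg.Agent.Lib.Helper98.A8.PkgOddG := by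
  intro S c p hp hp2 hc hcS hnorm
  refine pkgOdd (Subgroup.closure S) c p hp hp2 hc hcS ?_
  have h1 : ∀ g ∈ S, ∀ t ∈ (Subgroup.zpowers c : Set (Equiv.Perm (Fin 8))),
      g * t * g⁻¹ ∈ (Subgroup.zpowers c : Set (Equiv.Perm (Fin 8))) ∧
        g⁻¹ * t * g ∈ (Subgroup.zpowers c : Set (Equiv.Perm (Fin 8))) := by
    intro g hg t ht
    obtain ⟨n, rfl⟩ := Subgroup.mem_zpowers_iff.mp ht
    constructor
    · have : g * c ^ n * g⁻¹ = (g * c * g⁻¹) ^ n := by rw [conj_zpow]
      rw [this]
      exact Subgroup.zpow_mem _ (hnorm g hg).1 n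
    · have : g⁻¹ * c ^ n * g = (g⁻¹ * c * g) ^ n := by
        have := conj_zpow (a := g⁻¹) (b := c) (i := n)
        simpa using this.symm
      rw [this]
      exact Subgroup.zpow_mem _ (hnorm g hg).2 n
  intro h hh
  exact (conj_mem_of_closure S _ h1 h hh c (Subgroup.mem_zpowers c)).1

end Cfsg.Agent.Lib.Helper34.A8
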